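import Groth.Prelude.Def_RedSub
import Groth.Agent.Lib.SmoothSection.Scheme
import Groth.Agent.Lib.HensQF6.Basic
import Groth.Agent.Lib.EtStalk.FiniteSplit
import Groth.Agent.Lib.TorsorNorm25.Main

/-!
# Smooth torsors over henselian local rings are isotrivial
-/

set_option autoImplicit false
set_option linter.style.haveILetI false
set_option backward.isDefEq.respectTransparency.types false

universe u

open CategoryTheory CategoryTheory.Limits AlgebraicGeometry MonoidalCategory CartesianMonoidalCategory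

namespace Groth.Agent.TorsIsoTriv24

variable {A : Type u} [CommRing A]

theorem smooth_of_isTorsor [IsLocalRing A] {G P : Over (Spec (CommRingCat.of A))} [GrpObj G] [Smooth G.hom]
    (a : AlgGrp.Action G P) (ha : RedSub.IsTorsor a) : Smooth P.hom := by
  obtain ⟨hsur, hfl, hlfp, hiso⟩ := ha
  haveI := hsur; haveI := hfl; haveI := hlfp; haveI := hiso
  have hsnd : Smooth (pullback.snd P.hom P.hom) := by
    haveI : Smooth (pullback.snd G.hom P.hom) := inferInstance
    haveI : IsIso (lift a.act (snd G P)).left :=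
      inferInstanceAs (IsIso ((Over.forget _).map (lift a.act (snd G P))))
    have h : (lift a.act (snd G P)).left ≫ (snd P P).left = (snd G P).left :=
      congrArg (fun t => t.left) (lift_snd a.act (snd G P))
    have h2 : Smooth ((lift a.act (snd G P)).left ≫ (snd P P).left) := by
      rw [h]
      exact inferInstanceAs (Smooth (pullback.snd G.hom P.hom))
    exact (MorphismProperty.cancel_left_of_respectsIso @Smooth _ _).1 h2
  obtain ⟨x, hx⟩ := hsur.surj (IsLocalRing.closedPoint A)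
  obtain ⟨_, ⟨O, hO, rfl⟩, hxO, -⟩ :=
    P.left.isBasis_affineOpens.exists_subset_of_mem_open (Set.mem_univ x) isOpen_univ
  haveI : IsAffine (O : Scheme.{u}) := hO
  haveI : AlgebraicGeometry.Surjective ((Scheme.Opens.ι O) ≫ P.hom) := ⟨fun s => by
    have hop : IsOpen (Set.range ((Scheme.Opens.ι O) ≫ P.hom).base) := ((Scheme.Opens.ι O) ≫ P.hom).isOpenMap.isOpen_range
    exact (IsLocalRing.specializes_closedPoint s).mem_open hop ⟨⟨x, hxO⟩, hx⟩⟩
  let t : pullback P.hom ((Scheme.Opens.ι O) ≫ P.hom) ⟶ pullback P.hom P.hom :=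
    pullback.lift (pullback.fst _ _) (pullback.snd _ _ ≫ (Scheme.Opens.ι O)) (by rw [pullback.condition, Category.assoc])
  have hbig : IsPullback (t ≫ pullback.fst P.hom P.hom) (pullback.snd P.hom ((Scheme.Opens.ι O) ≫ P.hom)) P.hom
      ((Scheme.Opens.ι O) ≫ P.hom) := by
    rw [show t ≫ pullback.fst P.hom P.hom = pullback.fst P.hom ((Scheme.Opens.ι O) ≫ P.hom) from pullback.lift_fst _ _ _]
    exact IsPullback.of_hasPullback _ _
  have hleft : IsPullback t (pullback.snd P.hom ((Scheme.Opens.ι O) ≫ P.hom)) (pullback.snd P.hom P.hom) (Scheme.Opens.ι O) :=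
    IsPullback.of_right hbig (pullback.lift_snd _ _ _) (IsPullback.of_hasPullback P.hom P.hom)
  have hO' : Smooth (pullback.snd P.hom ((Scheme.Opens.ι O) ≫ P.hom)) :=
    MorphismProperty.of_isPullback (P := @Smooth) hleft hsnd
  exact MorphismProperty.of_isPullback_of_descendsAlong (P := @Smooth) (Q := @Surjective ⊓ @Flat ⊓ @QuasiCompact)
    (IsPullback.of_hasPullback P.hom ((Scheme.Opens.ι O) ≫ P.hom)).flip
    ⟨⟨inferInstance, inferInstance⟩, inferInstance⟩ hO'

theorem exists_isotrivial [HenselianLocalRing A] {G P : Over (Spec (CommRingCat.of A))} [GrpObj G] [Smooth G.hom]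
    (a : AlgGrp.Action G P) (ha : RedSub.IsTorsor a) :
    ∃ (S' : Scheme.{u}) (f : S' ⟶ Spec (CommRingCat.of A)), IsFinite f ∧ Etale f ∧ Surjective f ∧
      RedSub.HasSection (Red.bc f P) := by
  haveI := smooth_of_isTorsor a ha
  obtain ⟨x, hx⟩ := ha.1.surj (IsLocalRing.closedPoint A)
  obtain ⟨S', g, s', hg, hs', h, hh⟩ := SmoothSection.exists_etale_section P.hom x
  rw [hx] at hs'
  haveI := hg
  obtain ⟨_, ⟨V, hV, rfl⟩, hs'V, -⟩ :=
    S'.isBasis_affineOpens.exists_subset_of_mem_open (Set.mem_univ s') isOpen_univ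
  haveI : IsAffine (V : Scheme.{u}) := hV
  let v := (Scheme.Opens.ι V) ≫ g
  haveI : Etale v := inferInstanceAs (Etale ((Scheme.Opens.ι V) ≫ g))
  haveI : LocallyQuasiFinite v := Groth.Agent.FiniteSplit.locallyQuasiFinite_of_etale v
  obtain ⟨W, hWc, hWf, hW⟩ := HensQF6.exists_finitePart v
  haveI := hWf
  refine ⟨W, W.ι ≫ v, hWf, inferInstance, ⟨fun s => ?_⟩, ?_⟩
  · have hop : IsOpen (Set.range (W.ι ≫ v).base) := (W.ι ≫ v).isOpenMap.isOpen_range
    exact (IsLocalRing.specializes_closedPoint s).mem_open hop ⟨⟨⟨s', hs'V⟩, hW _ hs'⟩, hs'⟩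
  · let σ : (W : Scheme.{u}) ⟶ P.left := W.ι ≫ (Scheme.Opens.ι V) ≫ h
    have hσ : σ ≫ P.hom = W.ι ≫ v := by simp [σ, v, hh]
    exact ⟨Over.homMk (pullback.lift σ (𝟙 _) (by rw [hσ, Category.id_comp])) (pullback.lift_snd _ _ _)⟩

end Groth.Agent.TorsIsoTriv24
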